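import Mathlib
import Groth.Prelude.Def_CAlgX
import Groth.Agent.QReg6.Regular
import Groth.Agent.CAlgH.KindBasic

/-! The tail of a quasi-regular / `H₁`-regular family modulo the head. -/

set_option autoImplicit false

universe u

namespace Groth.Agent.RegCancelH2

open MvPolynomial

variable {A B : Type u} [CommRing A] [CommRing B] {φ : A →+* B} {s r : ℕ} {l : Fin s → A} {k : Fin r → A}

theorem h1_of_append (hφ : Function.Surjective φ) (hker : RingHom.ker φ = Ideal.span (Set.range k))
    (h : CAlgX.IsH1Regular (Fin.append l k)) : CAlgX.IsH1Regular fun i => φ (l i) := by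
  classical
  intro b hb
  choose b' hb' using fun i => hφ (b i)
  have hmem : ∑ i, b' i * l i ∈ Ideal.span (Set.range k) := by
    rw [← hker, RingHom.mem_ker]
    simp only [map_sum, map_mul, hb']
    exact hb
  obtain ⟨a, ha⟩ := Ideal.mem_span_range_iff_exists_fun.1 hmem
  have hrel : ∑ i, Fin.append b' (fun i => -a i) i * Fin.append l k i = 0 := by
    rw [Fin.sum_univ_add]
    simp only [Fin.append_left, Fin.append_right, neg_mul, Finset.sum_neg_distrib, ha, add_neg_cancel]
  have key : ∀ v ∈ Submodule.span A {v : Fin (s + r) → A | ∃ i j : Fin (s + r),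
      v = Pi.single i (Fin.append l k j) - Pi.single j (Fin.append l k i)},
      (fun i => φ (v (Fin.castAdd r i))) ∈ Submodule.span B {v : Fin s → B | ∃ i j : Fin s,
        v = Pi.single i (φ (l j)) - Pi.single j (φ (l i))} := by
    intro v hv
    induction hv using Submodule.span_induction with
    | zero =>
      rw [show (fun i : Fin s => φ ((0 : Fin (s + r) → A) (Fin.castAdd r i))) = 0 from
        funext fun i => map_zero φ]
      exact zero_mem _
    | add v w _ _ hv hw =>
      rw [show (fun i : Fin s => φ ((v + w) (Fin.castAdd r i))) =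
        (fun i => φ (v (Fin.castAdd r i))) + fun i => φ (w (Fin.castAdd r i)) from
        funext fun i => map_add φ _ _]
      exact add_mem hv hw
    | smul c v _ hv =>
      rw [show (fun i : Fin s => φ ((c • v) (Fin.castAdd r i))) =
        φ c • fun i => φ (v (Fin.castAdd r i)) from funext fun i => map_mul φ _ _]
      exact Submodule.smul_mem _ _ hv
    | mem v hv =>
      obtain ⟨p, q, rfl⟩ := hv
      have hk : ∀ i, φ (k i) = 0 := fun i => RingHom.mem_ker.1 (hker ▸ Ideal.subset_span ⟨i, rfl⟩)
      have hne : ∀ (i : Fin s) (j : Fin r), Fin.castAdd r i ≠ Fin.natAdd s j := fun i j e => by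
        have := congrArg Fin.val e
        simp only [Fin.val_castAdd, Fin.val_natAdd] at this
        omega
      have h1 : ∀ (i : Fin s) (x : A),
          (fun t : Fin s => φ ((Pi.single (Fin.castAdd r i) x : Fin (s + r) → A) (Fin.castAdd r t))) =
            Pi.single i (φ x) := fun i x => funext fun t => by
        simp only [Pi.single_apply, Fin.castAdd_inj]
        split_ifs <;> simp
      have h2 : ∀ (i : Fin r) (x : A),
          (fun t : Fin s => φ ((Pi.single (Fin.natAdd s i) x : Fin (s + r) → A) (Fin.castAdd r t))) = 0 :=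
        fun i x => funext fun t => by simp [hne t i]
      have hsub : ∀ x y : Fin (s + r) → A, (fun t : Fin s => φ ((x - y) (Fin.castAdd r t))) =
          (fun t => φ (x (Fin.castAdd r t))) - fun t => φ (y (Fin.castAdd r t)) :=
        fun x y => funext fun t => map_sub φ _ _
      induction p using Fin.addCases with
      | left p =>
        induction q using Fin.addCases with
        | left q =>
          rw [hsub, h1, h1]
          simp only [Fin.append_left]
          exact Submodule.subset_span ⟨p, q, rfl⟩
        | right q =>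
          rw [hsub, h1, h2, Fin.append_right, hk, Pi.single_zero, sub_zero]
          exact zero_mem _
      | right p =>
        induction q using Fin.addCases with
        | left q =>
          rw [hsub, h1, h2, Fin.append_right, hk, Pi.single_zero, sub_zero]
          exact zero_mem _
        | right q =>
          rw [hsub, h2, h2, sub_zero]
          exact zero_mem _
  have := key _ (h _ hrel)
  simpa only [Fin.append_left, hb'] using this

theorem exists_hom_lift (hφ : Function.Surjective φ) {σ : Type*} {n : ℕ} {P : MvPolynomial σ B}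
    (hP : P.IsHomogeneous n) : ∃ P' : MvPolynomial σ A, P'.IsHomogeneous n ∧ MvPolynomial.map φ P' = P := by
  classical
  obtain ⟨P', rfl⟩ := MvPolynomial.map_surjective φ hφ P
  refine ⟨homogeneousComponent n P', homogeneousComponent_isHomogeneous n P', ?_⟩
  ext d
  rw [coeff_map, coeff_map, coeff_homogeneousComponent]
  split_ifs with hd
  · rfl
  · rw [map_zero]
    have := hP.coeff_eq_zero (d := d) hd
    rw [coeff_map] at this
    exact this.symm

theorem exists_eval_of_mem_mul {F : Fin (s + r) → A} {m : ℕ} {w : A}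
    (hw : w ∈ Ideal.span (Set.range fun i => F (Fin.natAdd s i)) * Ideal.span (Set.range F) ^ m) :
    ∃ R : MvPolynomial (Fin (s + r)) A, R.IsHomogeneous (m + 1) ∧ eval F R = w ∧
      ∀ d, (∀ i, d (Fin.natAdd s i) = 0) → R.coeff d = 0 := by
  classical
  refine Submodule.mul_induction_on hw (fun x hx y hy => ?_) ?_
  · obtain ⟨c, rfl⟩ := Ideal.mem_span_range_iff_exists_fun.1 hx
    obtain ⟨Q, hQ, rfl⟩ := QReg6.exists_homogeneous_eval F hy
    refine ⟨∑ i, C (c i) * (X (Fin.natAdd s i) * Q), IsHomogeneous.sum _ _ _ fun i _ => ?_, ?_, fun d hd => ?_⟩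
    · rw [add_comm m 1]
      exact ((isHomogeneous_X A _).mul hQ).C_mul _
    · simp only [map_sum, map_mul, eval_C, eval_X, Finset.sum_mul]
      exact Finset.sum_congr rfl fun i _ => by ring
    · rw [coeff_sum]
      refine Finset.sum_eq_zero fun i _ => ?_
      rw [coeff_C_mul, coeff_X_mul', if_neg (by simp [hd i]), mul_zero]
  · rintro x y ⟨R, hR, rfl, hRd⟩ ⟨R', hR', rfl, hR'd⟩
    exact ⟨R + R', hR.add hR', map_add _ _ _, fun d hd => by rw [coeff_add, hRd d hd, hR'd d hd, add_zero]⟩

theorem mem_mul_pow_of_mem {F : Fin (s + r) → A} (hq : CAlgX.IsQuasiRegular F) {n : ℕ} {w : A}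
    (hw : w ∈ Ideal.span (Set.range fun i => F (Fin.natAdd s i)))
    (hwn : w ∈ Ideal.span (Set.range F) ^ (n + 1)) :
    ∀ m ≤ n, w ∈ Ideal.span (Set.range fun i => F (Fin.natAdd s i)) * Ideal.span (Set.range F) ^ m := by
  classical
  intro m
  induction m with
  | zero => intro _; simpa using hw
  | succ m ih =>
    intro hm
    obtain ⟨R, hR, hRw, hRd⟩ := exists_eval_of_mem_mul (ih (by omega))
    have hc := hq (m + 1) R hR (hRw.symm ▸ Ideal.pow_le_pow_right (by omega) hwn)
    rw [← hRw, eval_eq]
    refine Ideal.sum_mem _ fun d hd => ?_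
    obtain ⟨i, hi⟩ : ∃ i, d (Fin.natAdd s i) ≠ 0 := by
      by_contra! hno
      exact (mem_support_iff.1 hd) (hRd d hno)
    have hdeg : Finsupp.degree d = m + 1 := by
      have := hR (mem_support_iff.1 hd)
      rwa [Finsupp.degree_eq_weight_one]
    have hle : Finsupp.single (Fin.natAdd s i) 1 ≤ d := Finsupp.single_le_iff.2 (Nat.one_le_iff_ne_zero.2 hi)
    obtain ⟨e, rfl⟩ := le_iff_exists_add.1 hle
    rw [map_add, Finsupp.degree_single] at hdeg
    have hsplit : eval F (monomial (Finsupp.single (Fin.natAdd s i) 1 + e) (1 : A)) =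
        F (Fin.natAdd s i) * eval F (monomial e (1 : A)) := by
      rw [← mul_one (1 : A), ← monomial_mul, map_mul, eval_monomial]
      simp
    have hprod : ∀ d' : Fin (s + r) →₀ ℕ, ∏ i ∈ d'.support, F i ^ d' i = eval F (monomial d' (1 : A)) :=
      fun d' => by rw [eval_monomial, one_mul]; rfl
    rw [hprod, hsplit, mul_left_comm]
    refine Ideal.mul_mem_mul (Ideal.subset_span ⟨i, rfl⟩) ?_
    rw [pow_succ']
    refine Ideal.mul_mem_mul (hc _) (QReg6.eval_mem_pow F (isHomogeneous_monomial _ ?_))
    omega

theorem quasi_of_append (hφ : Function.Surjective φ) (hker : RingHom.ker φ = Ideal.span (Set.range k))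
    (h : CAlgX.IsQuasiRegular (Fin.append l k)) : CAlgX.IsQuasiRegular fun i => φ (l i) := by
  classical
  intro n P hP he d
  have hmapl : Ideal.span (Set.range fun i => φ (l i)) = (Ideal.span (Set.range l)).map φ := by
    rw [Ideal.map_span, ← Set.range_comp]; rfl
  obtain ⟨P', hP', rfl⟩ := exists_hom_lift hφ hP
  set F := Fin.append l k with hF
  have hlF : Ideal.span (Set.range l) ≤ Ideal.span (Set.range F) :=
    Ideal.span_mono fun x ⟨i, hi⟩ => ⟨Fin.castAdd r i, by rw [hF, Fin.append_left, hi]⟩
  have hk : (fun i => F (Fin.natAdd s i)) = k := funext fun i => Fin.append_right l k i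
  have hmapF : (Ideal.span (Set.range F)).map φ ≤ Ideal.span (Set.range fun i => φ (l i)) := by
    rw [Ideal.map_span, Ideal.span_le]
    rintro _ ⟨_, ⟨i, rfl⟩, rfl⟩
    induction i using Fin.addCases with
    | left i => rw [hF, Fin.append_left]; exact Ideal.subset_span ⟨i, rfl⟩
    | right i =>
      rw [hF, Fin.append_right, RingHom.mem_ker.1 (hker.symm ▸ Ideal.subset_span ⟨i, rfl⟩ : k i ∈ RingHom.ker φ)]
      exact zero_mem _
  have hev : ∀ Q : MvPolynomial (Fin s) A, eval (fun i => φ (l i)) (MvPolynomial.map φ Q) = φ (eval l Q) := by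
    intro Q
    induction Q using MvPolynomial.induction_on with
    | C a => rw [map_C, eval_C, eval_C]
    | add p q hp hq => rw [map_add, map_add, map_add, map_add, hp, hq]
    | mul_X p i hp => rw [map_mul, map_mul, map_mul, map_mul, hp, map_X, eval_X, eval_X]
  rw [hev, hmapl, ← Ideal.map_pow, Ideal.mem_map_iff_of_surjective φ hφ] at he
  obtain ⟨u, hu, hue⟩ := he
  have hW : eval l P' - u ∈ Ideal.span (Set.range k) := by
    rw [← hker, RingHom.mem_ker, map_sub, hue, sub_self]
  have hren : eval F (rename (Fin.castAdd r) P') = eval l P' := by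
    rw [eval_rename]
    exact congrArg (fun g => eval g P') (funext fun i => Fin.append_left l k i)
  have hrh : (rename (Fin.castAdd r) P').IsHomogeneous n := hP'.rename_isHomogeneous
  have hinj : Function.Injective (Fin.castAdd r : Fin s → Fin (s + r)) := Fin.castAdd_injective s r
  rw [coeff_map]
  rcases n with _ | n
  · have h0 : P' = C (P'.coeff 0) := by
      ext e
      rw [coeff_C]
      split_ifs with he0
      · rw [he0]
      · exact hP'.coeff_eq_zero (fun hd => he0 ((Finsupp.degree_eq_zero_iff e).1 hd).symm)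
    by_cases hd : d = 0
    · subst hd
      have hev0 : eval l P' = P'.coeff 0 := by conv_lhs => rw [h0, eval_C]
      have h3 : eval l P' ∈ Ideal.span (Set.range F) := by
        rw [← sub_add_cancel (eval l P') u]
        have hkF : Set.range k ⊆ Set.range F := by
          rintro x ⟨i, rfl⟩
          exact ⟨Fin.natAdd s i, by rw [hF, Fin.append_right]⟩
        exact add_mem (Ideal.span_mono hkF hW)
          (hlF (by simpa using hu))
      rw [← hev0]
      exact hmapF (Ideal.mem_map_of_mem φ h3)
    · rw [hP'.coeff_eq_zero (fun h => hd ((Finsupp.degree_eq_zero_iff d).1 h)), map_zero]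
      exact zero_mem _
  · have hWn : eval l P' - u ∈ Ideal.span (Set.range F) ^ (n + 1) :=
      sub_mem (hren ▸ QReg6.eval_mem_pow F hrh)
        (Ideal.pow_le_pow_right (Nat.le_succ _) (Ideal.pow_right_mono hlF _ hu))
    obtain ⟨R, hR, hRw, hRd⟩ := exists_eval_of_mem_mul
      (mem_mul_pow_of_mem h (hk.symm ▸ hW) hWn n le_rfl)
    have hc := h (n + 1) (rename (Fin.castAdd r) P' - R) (hrh.sub hR)
      (by rw [map_sub, hren, hRw, sub_sub_cancel]; exact Ideal.pow_right_mono hlF _ hu)
      (d.mapDomain (Fin.castAdd r))
    rw [coeff_sub, coeff_rename_mapDomain _ hinj, hRd _ fun i => Finsupp.mapDomain_notin_range _ _ (by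
      rintro ⟨t, ht⟩
      have := congrArg Fin.val ht
      simp only [Fin.val_castAdd, Fin.val_natAdd] at this
      omega), sub_zero] at hc
    exact hmapF (Ideal.mem_map_of_mem φ hc)

end Groth.Agent.RegCancelH2
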