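import Groth.Agent.RegImmH1.Conormal
import Groth.Agent.Formal2Lib.PuncturedDepth

/-!
# A stalkwise split conormal sequence: independence of the ideal of the bigger scheme
-/

set_option autoImplicit false
set_option backward.isDefEq.respectTransparency.types false
set_option backward.isDefEq.respectTransparency false
set_option linter.style.haveILetI false
universe u

open CategoryTheory CategoryTheory.Limits AlgebraicGeometry TopologicalSpace Opposite
open scoped TensorProduct

noncomputable section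

namespace Groth.Agent.RegCancelH2

open OmegaLib Thick15 Omega15 RegImmH1

variable {Z Y X : Scheme.{u}}

/-- The pullback map on stalks along an immersion, with its kernel. -/
theorem exists_pullStalk_ker (f : Z ⟶ Y) [IsImmersion f] (M : Y.Modules) (z : Z) :
    ∃ P : (DerSch.stalkFunctor Y (f z)).obj M →+ (DerSch.stalkFunctor Z z).obj ((Scheme.Modules.pullback f).obj M),
      Function.Surjective P ∧ (∀ (U : Y.Opens) (hz : f z ∈ U) (s : Γ(M, U)),
        P (gm M U (f z) hz s) = gm _ (f ⁻¹ᵁ U) z hz (OmegaSh.pullSect f M U s)) ∧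
      (∀ (c : Y.presheaf.stalk (f z)) m, P (c • m) = f.stalkMap z c • P m) ∧
      ∀ m, P m = 0 → m ∈ RingHom.ker (f.stalkMap z).hom •
        (⊤ : Submodule (Y.presheaf.stalk (f z)) ((DerSch.stalkFunctor Y (f z)).obj M)) := by
  letI := (f.stalkMap z).hom.toAlgebra
  obtain ⟨E, hE⟩ := exists_pullback_stalk_equiv f M z
  have hsm : ∀ (c : Y.presheaf.stalk (f z)) (m : (DerSch.stalkFunctor Y (f z)).obj M),
      E (1 ⊗ₜ (c • m)) = f.stalkMap z c • E (1 ⊗ₜ m) := fun c m => by
    rw [← map_smul, TensorProduct.smul_tmul', ← TensorProduct.smul_tmul, Algebra.smul_def, mul_one, smul_eq_mul,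
      mul_one]
    rfl
  refine ⟨AddMonoidHom.mk' (fun m => E (1 ⊗ₜ m)) fun m m' =>
      (congrArg E (TensorProduct.tmul_add _ _ _)).trans (map_add E _ _), fun w => ?_, fun U hz s => hE U hz s, hsm,
      fun m hm => mem_ker_smul_of_one_tmul_eq_zero (f.stalkMap_surjective z)
        (E.injective (hm.trans (map_zero E).symm))⟩
  obtain ⟨t, rfl⟩ := E.surjective w
  suffices ∃ m : (DerSch.stalkFunctor Y (f z)).obj M, (1 : Z.presheaf.stalk z) ⊗ₜ[Y.presheaf.stalk (f z)] m = t by
    obtain ⟨m, rfl⟩ := this; exact ⟨m, rfl⟩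
  induction t using TensorProduct.induction_on with
  | zero => exact ⟨0, TensorProduct.tmul_zero _ _⟩
  | tmul b m =>
    obtain ⟨a, rfl⟩ := f.stalkMap_surjective z b
    refine ⟨a • m, ?_⟩
    rw [← TensorProduct.smul_tmul, Algebra.smul_def, mul_one]
    rfl
  | add p q hp hq =>
    obtain ⟨m, rfl⟩ := hp
    obtain ⟨m', rfl⟩ := hq
    exact ⟨m + m', TensorProduct.tmul_add _ _ _⟩

set_option maxHeartbeats 1600000 in
/-- A stalkwise linear left inverse of the first conormal map makes `J ∩ 𝔪 K = 𝔪 J`. -/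
theorem stalk_inter (i : Z ⟶ Y) (j : Y ⟶ X) [IsImmersion i] [IsImmersion j]
    [QuasiCompact i] [QuasiCompact j]
    (a : (Scheme.Modules.pullback i).obj (Omega.conormal j) ⟶ Omega.conormal (i ≫ j))
    (ha : OmegaSh.IsConormalMap (i ≫ j) j (𝟙 X) i a) (z : Z)
    (L : (DerSch.stalkFunctor Z z).obj (Omega.conormal (i ≫ j)) →ₗ[Z.presheaf.stalk z]
      (DerSch.stalkFunctor Z z).obj ((Scheme.Modules.pullback i).obj (Omega.conormal j)))
    (hL : ∀ u, L ((DerSch.stalkFunctor Z z).map a u) = u)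
    {w : X.presheaf.stalk (j (i z))} (hwJ : w ∈ RingHom.ker (tm j (x := i z) rfl).hom)
    (hwK : w ∈ IsLocalRing.maximalIdeal (X.presheaf.stalk (j (i z))) *
      RingHom.ker (tm (i ≫ j) (x := z) (y := j (i z)) rfl).hom) :
    w ∈ IsLocalRing.maximalIdeal (X.presheaf.stalk (j (i z))) * RingHom.ker (tm j (x := i z) rfl).hom := by
  obtain ⟨πj, hπj⟩ := exists_pi j (i z) (y := j (i z)) rfl
  obtain ⟨π, hπ⟩ := exists_pi (i ≫ j) z (y := j (i z)) rfl
  obtain ⟨PI, hPIs, hPI, hPIl, hPIk⟩ := exists_pullStalk_ker i (Omega.conormal j) z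
  let p : X.presheaf.stalk (j (i z)) →+* Y.presheaf.stalk (i z) := (tm j (x := i z) rfl).hom
  let q : X.presheaf.stalk (j (i z)) →+* Z.presheaf.stalk z := (tm (i ≫ j) (x := z) (y := j (i z)) rfl).hom
  let m := IsLocalRing.maximalIdeal (X.presheaf.stalk (j (i z)))
  have hp : Function.Surjective p := tm_surjective j (p := i z) rfl
  have hq : ∀ r, q r = (i.stalkMap z).hom (p r) := fun r => by
    have h := congr($(tm_factor (f := i) (g := j) (k := i ≫ j) rfl (x := z) (y := i z) rfl rfl rfl) r)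
    rw [tm_self i z] at h
    exact h.symm
  have hI : RingHom.ker p ≤ RingHom.ker q := fun r hr => by
    rw [RingHom.mem_ker, hq, RingHom.mem_ker.1 hr, map_zero]
  have hne : RingHom.ker q ≤ m := IsLocalRing.le_maximalIdeal (RingHom.ker_ne_top _)
  have hA : ∀ x : RingHom.ker p, (DerSch.stalkFunctor Z z).map a (PI (πj x)) = π ⟨x.1, hI x.2⟩ := fun x => by
    refine (pi_conormalMap ha z (y := j (i z)) rfl (y' := j (i z)) rfl rfl hπ hπj hPI x).trans ?_
    exact congrArg π (Subtype.ext (tm_id_apply _ _))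
  have hker : ∀ x : RingHom.ker p, PI (πj x) = 0 → x.1 ∈ m * RingHom.ker p := by
    intro x hx
    suffices ∃ x' : RingHom.ker p, πj x' = πj x ∧ x'.1 ∈ m * RingHom.ker p by
      obtain ⟨x', he, hx'⟩ := this
      have h2 : (x - x').1 ∈ RingHom.ker p ^ 2 := (hπj.2.1 _).1 (by rw [map_sub, he, sub_self])
      have h3 : (x - x').1 ∈ m * RingHom.ker p := by
        rw [pow_two] at h2
        exact Ideal.mul_mono_left (hI.trans hne) h2
      have := add_mem h3 hx'
      simpa using this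
    refine Submodule.smul_induction_on (p := fun v => ∃ x' : RingHom.ker p, πj x' = v ∧ x'.1 ∈ m * RingHom.ker p)
      (hPIk _ hx) (fun c hc v _ => ?_) ?_
    · obtain ⟨y, rfl⟩ := hπj.1 v
      obtain ⟨r, rfl⟩ := hp c
      refine ⟨r • y, hπj.2.2.1 r y, Ideal.mul_mem_mul (hne ?_) y.2⟩
      rw [RingHom.mem_ker, hq]
      exact RingHom.mem_ker.1 hc
    · rintro v v' ⟨x, rfl, hx⟩ ⟨x', rfl, hx'⟩
      exact ⟨x + x', map_add _ _ _, add_mem hx hx'⟩
  have hK : ∃ h : w ∈ RingHom.ker q, ∃ y : RingHom.ker p, y.1 ∈ m * RingHom.ker p ∧ L (π ⟨w, h⟩) = PI (πj y) := by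
    refine Submodule.mul_induction_on hwK (fun r hr s hs => ?_) ?_
    · obtain ⟨v, hv⟩ := hPIs (L (π ⟨s, hs⟩))
      obtain ⟨y, rfl⟩ := hπj.1 v
      refine ⟨Ideal.mul_mem_left _ r hs, r • y, Ideal.mul_mem_mul hr y.2, ?_⟩
      rw [show (⟨r * s, Ideal.mul_mem_left _ r hs⟩ : RingHom.ker q) = r • ⟨s, hs⟩ from rfl, hπ.2.2.1, map_smul, ← hv,
        hπj.2.2.1, hPIl]
      exact congrArg (· • _) (hq r)
    · rintro x x' ⟨h, y, hy, e⟩ ⟨h', y', hy', e'⟩
      refine ⟨add_mem h h', y + y', add_mem hy hy', ?_⟩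
      rw [show (⟨x + x', add_mem h h'⟩ : RingHom.ker q) = ⟨x, h⟩ + ⟨x', h'⟩ from rfl, map_add, map_add, e, e',
        map_add, map_add]
  obtain ⟨h, y, hy, e⟩ := hK
  have e' := hA ⟨w, hwJ⟩
  have e2 : PI (πj ⟨w, hwJ⟩) = PI (πj y) := by
    rw [← e, ← hL (PI (πj ⟨w, hwJ⟩)), e']
  have := add_mem (hker (⟨w, hwJ⟩ - y) (by rw [map_sub, map_sub, e2, sub_self])) hy
  simpa using this

section Restrict

variable {W : Scheme.{u}}

/-- The stalks of a restriction to an open. -/
def stE (U : W.Opens) {z : W} (hz : z ∈ U) (M : W.Modules) :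
    (DerSch.stalkFunctor U.toScheme ⟨z, hz⟩).obj ((Scheme.Modules.restrictFunctor U.ι).obj M) ≃+
      (DerSch.stalkFunctor W z).obj M :=
  ((Scheme.Modules.restrictStalkNatIso U.ι ⟨z, hz⟩).app M).addCommGroupIsoToAddEquiv

theorem stE_symm_smul (U : W.Opens) {z : W} (hz : z ∈ U) (M : W.Modules) (c : W.presheaf.stalk z)
    (v : (DerSch.stalkFunctor W z).obj M) :
    (stE U hz M).symm (c • v) = U.ι.stalkMap ⟨z, hz⟩ c • (stE U hz M).symm v :=
  Formal2Lib.Punct.restrictStalk_smul U.ι M ⟨z, hz⟩ c v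

/-- The stalk at a point of an open of a morphism defined on the open only. -/
def openStalk (U : W.Opens) {z : W} (hz : z ∈ U) {M N : W.Modules}
    (φ : (Scheme.Modules.restrictFunctor U.ι).obj M ⟶ (Scheme.Modules.restrictFunctor U.ι).obj N) :
    (DerSch.stalkFunctor W z).obj M →ₗ[W.presheaf.stalk z] (DerSch.stalkFunctor W z).obj N where
  toFun v := stE U hz N ((DerSch.stalkFunctor U.toScheme ⟨z, hz⟩).map φ ((stE U hz M).symm v))
  map_add' v v' := by simp only [map_add]
  map_smul' c v := by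
    apply (stE U hz N).symm.injective
    rw [AddEquiv.symm_apply_apply, stE_symm_smul, map_smul, RingHom.id_apply, stE_symm_smul,
      AddEquiv.symm_apply_apply]

theorem openStalk_map (U : W.Opens) {z : W} (hz : z ∈ U) {M N : W.Modules} (ψ : M ⟶ N)
    (v : (DerSch.stalkFunctor W z).obj M) :
    openStalk U hz ((Scheme.Modules.restrictFunctor U.ι).map ψ) v = (DerSch.stalkFunctor W z).map ψ v := by
  have h := ConcreteCategory.congr_hom
    ((Scheme.Modules.restrictStalkNatIso U.ι ⟨z, hz⟩).hom.naturality ψ) ((stE U hz M).symm v)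
  refine Eq.trans h ?_
  exact congrArg ((DerSch.stalkFunctor W z).map ψ) ((stE U hz M).apply_symm_apply v)

theorem openStalk_comp (U : W.Opens) {z : W} (hz : z ∈ U) {M N P : W.Modules}
    (φ : (Scheme.Modules.restrictFunctor U.ι).obj M ⟶ (Scheme.Modules.restrictFunctor U.ι).obj N)
    (ψ : (Scheme.Modules.restrictFunctor U.ι).obj N ⟶ (Scheme.Modules.restrictFunctor U.ι).obj P)
    (v : (DerSch.stalkFunctor W z).obj M) :
    openStalk U hz (φ ≫ ψ) v = openStalk U hz ψ (openStalk U hz φ v) := by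
  show stE U hz P ((DerSch.stalkFunctor U.toScheme ⟨z, hz⟩).map (φ ≫ ψ) ((stE U hz M).symm v)) =
    stE U hz P ((DerSch.stalkFunctor U.toScheme ⟨z, hz⟩).map ψ
      ((stE U hz N).symm (stE U hz N ((DerSch.stalkFunctor U.toScheme ⟨z, hz⟩).map φ ((stE U hz M).symm v)))))
  rw [AddEquiv.symm_apply_apply, Functor.map_comp]
  rfl

theorem openStalk_id (U : W.Opens) {z : W} (hz : z ∈ U) (M : W.Modules) (v : (DerSch.stalkFunctor W z).obj M) :
    openStalk U hz (𝟙 ((Scheme.Modules.restrictFunctor U.ι).obj M)) v = v := by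
  show stE U hz M ((DerSch.stalkFunctor U.toScheme ⟨z, hz⟩).map (𝟙 _) ((stE U hz M).symm v)) = v
  rw [CategoryTheory.Functor.map_id]
  exact (stE U hz M).apply_symm_apply v

end Restrict

end Groth.Agent.RegCancelH2
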