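import Groth.Agent.RegCancelH2.Exchange
import Groth.Agent.RegCancelH2.Stalk
import Groth.Agent.CAlgH.KindScheme
import Groth.Agent.FlatMorKoszul.Locus

/-! Cancelling regular immersions with split conormal sequence: the chart. -/

set_option autoImplicit false
set_option backward.isDefEq.respectTransparency.types false
set_option backward.isDefEq.respectTransparency false
universe u

open CategoryTheory CategoryTheory.Limits AlgebraicGeometry TopologicalSpace Opposite

noncomputable section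

namespace Groth.Agent.RegCancelH2

open OmegaLib Thick15 Omega15 CAlgH CAlgH.KindBasic

variable {Z Y X : Scheme.{u}}

theorem range_append_span {B : Type u} [CommRing B] {s r : ℕ} (l : Fin s → B) (f : Fin r → B)
    (hf : ∀ p, f p = 0) : Ideal.span (Set.range (Fin.append l f)) = Ideal.span (Set.range l) := by
  refine le_antisymm (Ideal.span_le.2 ?_) (Ideal.span_mono ?_)
  · rintro _ ⟨q, rfl⟩
    induction q using Fin.addCases with
    | left q => rw [Fin.append_left]; exact Ideal.subset_span ⟨q, rfl⟩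
    | right q => rw [Fin.append_right, hf]; exact zero_mem _
  · rintro _ ⟨q, rfl⟩
    exact ⟨Fin.castAdd r q, Fin.append_left _ _ _⟩

theorem exists_chart {κ : RegImm.Kind} (hκ : κ ≠ .regular) (i : Z ⟶ Y) (j : Y ⟶ X) [IsImmersion i] [IsImmersion j]
    [QuasiCompact i] [QuasiCompact j]
    (a : (Scheme.Modules.pullback i).obj (Omega.conormal j) ⟶ Omega.conormal (i ≫ j))
    (ha : OmegaSh.IsConormalMap (i ≫ j) j (𝟙 X) i a) (z : Z)
    (L : (DerSch.stalkFunctor Z z).obj (Omega.conormal (i ≫ j)) →ₗ[Z.presheaf.stalk z]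
      (DerSch.stalkFunctor Z z).obj ((Scheme.Modules.pullback i).obj (Omega.conormal j)))
    (hL : ∀ u, L ((DerSch.stalkFunctor Z z).map a u) = u)
    {W : X.Opens} (hW : IsAffineOpen W) (hx : j (i z) ∈ W) [IsClosedImmersion (j ∣_ W)]
    [IsClosedImmersion ((i ≫ j) ∣_ W)]
    {n r : ℕ} (k : Fin n → Γ(X, W)) (hk : SeqF κ k)
    (hK : RingHom.ker ((i ≫ j).app W).hom = Ideal.span (Set.range k))
    (f : Fin r → Γ(X, W)) (hfJ : ∀ p, f p ∈ RingHom.ker (j.app W).hom)
    (b : Γ(X, W)) (hb : b ∉ (hW.primeIdealOf ⟨j (i z), hx⟩).asIdeal)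
    (hspan : ∀ y ∈ RingHom.ker (j.app W).hom, b * y ∈ Ideal.span (Set.range f))
    (hind : ∀ c : Fin r → Γ(X, W),
      ∑ p, c p * f p ∈ (hW.primeIdealOf ⟨j (i z), hx⟩).asIdeal * RingHom.ker (j.app W).hom →
        ∀ p, c p ∈ (hW.primeIdealOf ⟨j (i z), hx⟩).asIdeal)
    (happ : ∀ {A B : Type u} [CommRing A] [CommRing B] (φ : Γ(X, W) →+* A) (ψ : A →+* B),
      φ.Flat → Function.Surjective ψ → RingHom.ker ψ = Ideal.span (Set.range fun p => φ (f p)) →
      ∀ {s : ℕ} (l : Fin s → A), SeqF κ (Fin.append l fun p => φ (f p)) → SeqF κ fun t => ψ (l t)) :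
    ∃ U : Y.affineOpens, i z ∈ U.1 ∧ IsClosedImmersion (i ∣_ U.1) ∧ ∃ rs : List Γ(Y, U.1),
      κ.Seq Γ(Y, U.1) rs ∧ RingHom.ker (i.app U.1).hom = Ideal.ofList rs := by
  set P := (hW.primeIdealOf ⟨j (i z), hx⟩).asIdeal
  set J := RingHom.ker (j.app W).hom
  set K := RingHom.ker ((i ≫ j).app W).hom
  letI := X.presheaf.algebra_section_stalk ⟨j (i z), hx⟩
  haveI : IsLocalization.AtPrime (X.presheaf.stalk (j (i z))) P := hW.isLocalization_stalk ⟨j (i z), hx⟩
  let G : Γ(X, W) →+* X.presheaf.stalk (j (i z)) := algebraMap _ _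
  have hm : IsLocalRing.maximalIdeal (X.presheaf.stalk (j (i z))) = P.map G :=
    (IsLocalization.AtPrime.map_eq_maximalIdeal P _).symm
  have hJx : RingHom.ker (tm j (x := i z) rfl).hom = J.map G := by
    rw [tm_self]; exact CAlgH.RegImmStalk.ker_stalkMap_eq j (i z) hW hx
  have hKx : RingHom.ker (tm (i ≫ j) (x := z) (y := j (i z)) rfl).hom = K.map G := by
    refine Eq.trans ?_ (CAlgH.RegImmStalk.ker_stalkMap_eq (i ≫ j) z hW hx)
    exact congrArg (fun t => RingHom.ker (CommRingCat.Hom.hom t)) (tm_self (i ≫ j) z)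
  have hJK : ∀ y ∈ J, y ∈ K := fun y hy => by
    show (i ≫ j).app W y = 0
    rw [Scheme.Hom.comp_app, CommRingCat.comp_apply, show j.app W y = 0 from hy, map_zero]
  have hindK : ∀ c : Fin r → Γ(X, W), ∑ p, c p * f p ∈ P * Ideal.span (Set.range k) → ∀ p, c p ∈ P := by
    intro c hc p
    rw [← hK] at hc
    have hyJ : ∑ p, c p * f p ∈ J := Ideal.sum_mem _ fun q _ => Ideal.mul_mem_left _ _ (hfJ q)
    have h1 := stalk_inter i j a ha z L hL (w := G (∑ p, c p * f p)) (hJx ▸ Ideal.mem_map_of_mem G hyJ)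
      (by rw [hm, hKx, ← Ideal.map_mul]; exact Ideal.mem_map_of_mem G hc)
    rw [hm, hJx, ← Ideal.map_mul] at h1
    obtain ⟨s, hs, hsy⟩ := (IsLocalization.algebraMap_mem_map_algebraMap_iff P.primeCompl _ _ _).1 h1
    have h2 := hind (fun q => s * c q) (by simpa only [mul_assoc, ← Finset.mul_sum] using hsy) p
    exact ((hW.primeIdealOf ⟨j (i z), hx⟩).isPrime.mem_or_mem h2).resolve_left hs
  haveI : P.IsPrime := (hW.primeIdealOf ⟨j (i z), hx⟩).isPrime
  obtain ⟨s, l, d, rfl, hd, -, hl⟩ := exists_complete k f (fun p => hK ▸ hJK _ (hfJ p)) hindK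
  have hbd : b * d ∉ P := fun h => (Ideal.IsPrime.mem_or_mem ‹_› h).elim hb hd
  have hD : IsAffineOpen (X.basicOpen (b * d)) := hW.basicOpen _
  let D := X.basicOpen (b * d)
  have hle : D ≤ W := X.basicOpen_le _
  have hxD : j (i z) ∈ D := (FlatMorKoszul.notMem_primeIdealOf_iff hW hx (b * d)).1 hbd
  let ρ : Γ(X, W) →+* Γ(X, D) := (X.presheaf.map (homOfLE hle).op).hom
  have hρ : ρ.Flat := KoszulChart.flat_restrict hW hD hle
  have hu : IsUnit (ρ b * ρ d) := by rw [← map_mul]; exact RingedSpace.isUnit_res_basicOpen _ (b * d)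
  obtain ⟨hcj, hkj⟩ := KoszulChart.restrict j hW hD hle
  obtain ⟨hcij, hkij⟩ := KoszulChart.restrict (i ≫ j) hW hD hle
  haveI := hcj
  have hspanK : Ideal.span (Set.range fun q => ρ (Fin.append l f q)) = RingHom.ker ((i ≫ j).app D).hom := by
    rw [hl ρ (isUnit_of_mul_isUnit_right hu), hkij, ← hK]
  have hspanJ : RingHom.ker (j.app D).hom = Ideal.span (Set.range fun p => ρ (f p)) := by
    rw [hkj]
    refine le_antisymm (Ideal.map_le_iff_le_comap.2 fun y hy => ?_) (Ideal.span_le.2 ?_)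
    · rw [Ideal.mem_comap]
      refine (Ideal.unit_mul_mem_iff_mem _ (isUnit_of_mul_isUnit_left hu)).1 ?_
      have h := Ideal.mem_map_of_mem ρ (hspan y hy)
      rw [map_mul, Ideal.map_span, ← Set.range_comp] at h
      exact h
    · rintro _ ⟨p, rfl⟩
      exact Ideal.mem_map_of_mem ρ (hfJ p)
  have hV : IsAffineOpen (j ⁻¹ᵁ D) := by
    have : IsAffine D.toScheme := hD
    exact isAffine_of_isAffineHom (j ∣_ D)
  have hψ : Function.Surjective (j.app D).hom := RegImmStalk.app_surjective_of_restrict j hD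
  have hseq : SeqF κ (Fin.append (fun t => ρ (l t)) fun p => ρ (f p)) := by
    have e : (Fin.append (fun t => ρ (l t)) fun p => ρ (f p)) = fun q => ρ (Fin.append l f q) := by
      funext q
      induction q using Fin.addCases <;> simp
    rw [e]
    refine seqF_of_span_eq (hk.map hρ) ?_
    rw [hspanK, hkij, ← show (Ideal.span (Set.range k)).map ρ = Ideal.span (Set.range fun q => ρ (k q)) by
      rw [Ideal.map_span, ← Set.range_comp]; rfl, ← hK]
  have hres := happ ρ (j.app D).hom hρ hψ hspanJ _ hseq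
  refine ⟨⟨j ⁻¹ᵁ D, hV⟩, hxD, ?_, List.ofFn fun t => j.app D (ρ (l t)), (seq_ofFn_iff hκ _).2 hres, ?_⟩
  · have : IsClosedImmersion (i ∣_ (j ⁻¹ᵁ D) ≫ j ∣_ D) := by
      rw [← morphismRestrict_comp]; exact hcij
    exact IsClosedImmersion.of_comp _ (j ∣_ D)
  · rw [FlatMorKoszul.ofList_ofFn]
    have hcomp : RingHom.ker ((i ≫ j).app D).hom =
        (RingHom.ker (i.app (j ⁻¹ᵁ D)).hom).comap (j.app D).hom := by
      rw [Scheme.Hom.comp_app, CommRingCat.hom_comp, RingHom.comap_ker]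
    rw [← Ideal.map_comap_of_surjective _ hψ (RingHom.ker (i.app (j ⁻¹ᵁ D)).hom), ← hcomp, ← hspanK,
      Ideal.map_span, ← Set.range_comp]
    have e : (j.app D).hom ∘ (fun q => ρ (Fin.append l f q)) =
        Fin.append (fun t => j.app D (ρ (l t))) fun p => j.app D (ρ (f p)) := by
      funext q
      induction q using Fin.addCases <;> simp
    rw [e]
    exact range_append_span _ _ fun p => RingHom.mem_ker.1 (hspanJ ▸ Ideal.subset_span ⟨p, rfl⟩)

end Groth.Agent.RegCancelH2
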