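import Mathlib
import Groth.Prelude.Def_CAlgX

/-! Extending a family which is independent at a prime to generators of an ideal. -/

set_option autoImplicit false

universe u

namespace Groth.Agent.RegCancelH2

variable {A : Type u} [CommRing A]

/-- A family generating `J` near `P` which is independent modulo `P * J`. -/
theorem exists_indep_family (J P : Ideal A) [P.IsPrime] (hJ : J.FG) :
    ∃ (r : ℕ) (f : Fin r → A) (a : A), a ∉ P ∧ (∀ p, f p ∈ J) ∧ (∀ y ∈ J, a * y ∈ Ideal.span (Set.range f)) ∧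
      ∀ c : Fin r → A, ∑ p, c p * f p ∈ P * J → ∀ p, c p ∈ P := by
  classical
  let Q : ℕ → Prop := fun r => ∃ (f : Fin r → A) (a : A), a ∉ P ∧ (∀ p, f p ∈ J) ∧
    ∀ y ∈ J, a * y ∈ Ideal.span (Set.range f)
  have hQ : ∃ r, Q r := by
    obtain ⟨N, F, hF⟩ := Submodule.fg_iff_exists_fin_generating_family.1 hJ
    refine ⟨N, F, 1, Ideal.one_notMem P, fun p => hF ▸ Submodule.subset_span ⟨p, rfl⟩, fun y hy => ?_⟩
    rw [one_mul]
    subst hF
    exact hy
  obtain ⟨f, a, ha, hfJ, hspan⟩ := Nat.find_spec hQ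
  refine ⟨Nat.find hQ, f, a, ha, hfJ, hspan, ?_⟩
  have hmin : ∀ {r : ℕ}, Q r → Nat.find hQ ≤ r := fun h => Nat.find_min' hQ h
  revert f hmin
  generalize Nat.find hQ = r
  intro f hfJ hspan hmin c hc p₀
  by_contra hp
  have hmul : ∀ z ∈ P * J, a * z ∈ P * Ideal.span (Set.range f) := fun z hz => by
    refine Submodule.mul_induction_on hz (fun x hx y hy => ?_) fun x y hx hy => ?_
    · rw [mul_left_comm]; exact Ideal.mul_mem_mul hx (hspan y hy)
    · rw [mul_add]; exact add_mem hx hy
  have h1 := hmul _ hc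
  rw [← smul_eq_mul P] at h1
  obtain ⟨b, hb, hbe⟩ := (Submodule.mem_ideal_smul_span_iff_exists_sum _ f _).1 h1
  rw [Finsupp.sum_fintype _ _ (fun i => zero_smul A (f i))] at hbe
  simp only [smul_eq_mul] at hbe
  have hrel : ∑ p, (a * c p - b p) * f p = 0 := by
    simp only [sub_mul, Finset.sum_sub_distrib, hbe, Finset.mul_sum, mul_assoc, sub_self]
  have hu : a * c p₀ - b p₀ ∉ P := fun h => by
    have h' := add_mem h (hb p₀)
    rw [sub_add_cancel] at h'
    exact ((Ideal.IsPrime.mem_or_mem ‹_› h').elim ha hp)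
  obtain ⟨r, rfl⟩ : ∃ r', r = r' + 1 := ⟨r - 1, by have := p₀.2; omega⟩
  have hg : (a * c p₀ - b p₀) * f p₀ ∈ Ideal.span (Set.range (f ∘ p₀.succAbove)) := by
    rw [Fin.sum_univ_succAbove _ p₀] at hrel
    rw [eq_neg_of_add_eq_zero_left hrel]
    exact neg_mem (Ideal.sum_mem _ fun q _ => Ideal.mul_mem_left _ _ (Ideal.subset_span ⟨q, rfl⟩))
  have hQ' : Q r := by
    refine ⟨f ∘ p₀.succAbove, (a * c p₀ - b p₀) * a, fun h => (Ideal.IsPrime.mem_or_mem ‹_› h).elim hu ha,
      fun q => hfJ _, fun y hy => ?_⟩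
    rw [mul_assoc]
    have hle : ∀ z ∈ Ideal.span (Set.range f),
        (a * c p₀ - b p₀) * z ∈ Ideal.span (Set.range (f ∘ p₀.succAbove)) := fun z hz => by
      obtain ⟨w, rfl⟩ := Ideal.mem_span_range_iff_exists_fun.1 hz
      rw [Finset.mul_sum]
      refine Ideal.sum_mem _ fun q _ => ?_
      rcases Fin.eq_self_or_eq_succAbove p₀ q with rfl | ⟨q', rfl⟩
      · rw [mul_left_comm]; exact Ideal.mul_mem_left _ _ hg
      · exact Ideal.mul_mem_left _ _ (Ideal.mul_mem_left _ _ (Ideal.subset_span ⟨q', rfl⟩))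
    exact hle _ (hspan y hy)
  have := hmin hQ'
  omega

/-- Steinitz exchange at a prime. -/
theorem exists_exchange {P : Ideal A} [P.IsPrime] {n : ℕ} (k : Fin n → A) : ∀ {r : ℕ} (f : Fin r → A),
    (∀ p, f p ∈ Ideal.span (Set.range k)) →
    (∀ c : Fin r → A, ∑ p, c p * f p ∈ P * Ideal.span (Set.range k) → ∀ p, c p ∈ P) →
    ∃ (σ : Fin r → Fin n) (C : Matrix (Fin n) (Fin n) A),
      Function.Injective σ ∧ C.det ∉ P ∧ ∀ p, ∑ q, C (σ p) q * k q = f p := by
  classical
  intro r
  induction r with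
  | zero => exact fun f _ _ => ⟨Fin.elim0, 1, fun p => p.elim0, by rw [Matrix.det_one]; exact Ideal.one_notMem P, fun p => p.elim0⟩
  | succ r ih =>
    intro f hf hind
    obtain ⟨σ, C, hσ, hdet, hC⟩ := ih (fun p => f p.castSucc) (fun p => hf _) fun c hc p => by
      have := hind (Fin.snoc c 0) (by
        rw [Fin.sum_univ_castSucc]
        simpa only [Fin.snoc_castSucc, Fin.snoc_last, zero_mul, add_zero] using hc) p.castSucc
      rwa [Fin.snoc_castSucc] at this
    obtain ⟨v, hv⟩ := Ideal.mem_span_range_iff_exists_fun.1 (hf (Fin.last r))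
    let w : Fin n → A := Matrix.vecMul v C.adjugate
    have hw : Matrix.vecMul w C = C.det • v := by
      rw [Matrix.vecMul_vecMul, Matrix.adjugate_mul, Matrix.vecMul_smul, Matrix.vecMul_one]
    obtain ⟨q, hq, hwq⟩ : ∃ q, (∀ p, σ p ≠ q) ∧ w q ∉ P := by
      by_contra! hno
      suffices h2 : ∑ p, (Fin.snoc (fun p => -w (σ p)) C.det : Fin (r + 1) → A) p * f p ∈
          P * Ideal.span (Set.range k) by
        have := hind _ h2 (Fin.last r)
        rw [Fin.snoc_last] at this
        exact hdet this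
      rw [Fin.sum_univ_castSucc]
      simp only [Fin.snoc_castSucc, Fin.snoc_last, neg_mul, Finset.sum_neg_distrib]
      have h1 : ∑ i, w i * (∑ q, C i q * k q) = C.det * f (Fin.last r) := by
        rw [← hv, Finset.mul_sum]
        simp only [Finset.mul_sum]
        rw [Finset.sum_comm]
        refine Finset.sum_congr rfl fun q _ => ?_
        rw [← mul_assoc, show C.det * v q = Matrix.vecMul w C q by rw [hw]; rfl]
        simp only [Matrix.vecMul, dotProduct, Finset.sum_mul, mul_assoc]
      rw [← h1, ← Finset.sum_add_sum_compl (Finset.univ.image σ), Finset.sum_image hσ.injOn]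
      simp only [hC, neg_add_cancel_left]
      refine Ideal.sum_mem _ fun i hi => Ideal.mul_mem_mul (hno i fun p hp => ?_)
        (Ideal.sum_mem _ fun q _ => Ideal.mul_mem_left _ _ (Ideal.subset_span ⟨q, rfl⟩))
      exact Finset.mem_compl.1 hi (Finset.mem_image.2 ⟨p, Finset.mem_univ _, hp⟩)
    refine ⟨Fin.snoc σ q, C.updateRow q v, Fin.snoc_injective_iff.2 ⟨hσ, fun ⟨p, hp⟩ => hq p hp⟩, ?_, fun p => ?_⟩
    · have : (C.updateRow q v).det = w q := by
        show _ = Matrix.vecMul v C.adjugate q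
        rw [← Matrix.cramer_transpose_apply, Matrix.cramer_eq_adjugate_mulVec, ← Matrix.adjugate_transpose,
          Matrix.mulVec_transpose]
      rw [this]; exact hwq
    · induction p using Fin.lastCases with
      | last => rw [Fin.snoc_last, Matrix.updateRow_self]; exact hv
      | cast p => rw [Fin.snoc_castSucc, Matrix.updateRow_ne (hq p)]; exact hC p

/-- Generators of an ideal ending with a prescribed independent family, near a prime. -/
theorem exists_complete {P : Ideal A} [P.IsPrime] {n r : ℕ} (k : Fin n → A) (f : Fin r → A)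
    (hf : ∀ p, f p ∈ Ideal.span (Set.range k))
    (hind : ∀ c : Fin r → A, ∑ p, c p * f p ∈ P * Ideal.span (Set.range k) → ∀ p, c p ∈ P) :
    ∃ (s : ℕ) (l : Fin s → A) (d : A), s + r = n ∧ d ∉ P ∧ (∀ t, l t ∈ Ideal.span (Set.range k)) ∧
      ∀ {L : Type u} [CommRing L] (φ : A →+* L), IsUnit (φ d) →
        Ideal.span (Set.range fun i => φ (Fin.append l f i)) = (Ideal.span (Set.range k)).map φ := by
  classical
  obtain ⟨σ, C, hσ, hdet, hC⟩ := exists_exchange k f hf hind
  let T : Finset (Fin n) := (Finset.univ.image σ)ᶜ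
  let e := T.equivFin
  let k' : Fin n → A := C.mulVec k
  refine ⟨T.card, fun t => k' (e.symm t), C.det, ?_, hdet,
    fun t => ?_, ?_⟩
  · rw [Finset.card_compl, Finset.card_image_of_injective _ hσ, Finset.card_univ, Fintype.card_fin, Fintype.card_fin]
    have : r ≤ n := by simpa using Fintype.card_le_of_injective σ hσ
    omega
  · show ∑ q, C (e.symm t) q * k q ∈ _
    exact Ideal.sum_mem _ fun q _ => Ideal.mul_mem_left _ _ (Ideal.subset_span ⟨q, rfl⟩)
  · intro L _ φ hu
    have hfk : ∀ p, k' (σ p) = f p := hC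
    have hk' : ∀ i, φ (k' i) ∈ Ideal.span (Set.range fun i => φ (Fin.append (fun t => k' (e.symm t)) f i)) := by
      intro i
      by_cases hi : i ∈ T
      · exact Ideal.subset_span ⟨Fin.castAdd r (e ⟨i, hi⟩), by simp⟩
      · obtain ⟨p, rfl⟩ : ∃ p, σ p = i := by simpa [T] using hi
        exact Ideal.subset_span ⟨Fin.natAdd T.card p, by simp [hfk]⟩
    refine le_antisymm (Ideal.span_le.2 ?_) (Ideal.map_le_iff_le_comap.2 (Ideal.span_le.2 ?_))
    · rintro _ ⟨i, rfl⟩
      induction i using Fin.addCases with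
      | left i =>
        simp only [Fin.append_left]
        refine Ideal.mem_map_of_mem φ ?_
        show ∑ q, C (e.symm i) q * k q ∈ _
        exact Ideal.sum_mem _ fun q _ => Ideal.mul_mem_left _ _ (Ideal.subset_span ⟨q, rfl⟩)
      | right i =>
        simp only [Fin.append_right]
        exact Ideal.mem_map_of_mem φ (hf i)
    · rintro _ ⟨q, rfl⟩
      rw [SetLike.mem_coe, Ideal.mem_comap]
      refine (Ideal.unit_mul_mem_iff_mem _ hu).1 ?_
      rw [← map_mul, show C.det * k q = C.adjugate.mulVec k' q by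
        show _ = C.adjugate.mulVec (C.mulVec k) q
        rw [Matrix.mulVec_mulVec, Matrix.adjugate_mul, Matrix.smul_mulVec, Matrix.one_mulVec]
        rfl]
      simp only [Matrix.mulVec, dotProduct, map_sum, map_mul]
      exact Ideal.sum_mem _ fun i _ => Ideal.mul_mem_left _ _ (hk' i)

end Groth.Agent.RegCancelH2
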