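import Groth.Agent.RegCancelH2.Append
import Groth.Agent.RegCancelH2.Chart
import Groth.Agent.FlatMorKoszul.Quot
import Groth.Agent.ModStalk.Exact

/-! Permanence of regular immersions with locally split conormal sequence. -/

set_option autoImplicit false
set_option backward.isDefEq.respectTransparency.types false
set_option backward.isDefEq.respectTransparency false
universe u

open CategoryTheory CategoryTheory.Limits AlgebraicGeometry TopologicalSpace Opposite

noncomputable section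

namespace Groth.Agent.RegCancelH2

open OmegaLib Thick15 Omega15 CAlgH CAlgH.KindBasic

variable {Z Y X : Scheme.{u}}

/-- Stalkwise linear left inverse of a morphism. -/
def HasStalkRetraction {W : Scheme.{u}} {M N : W.Modules} (a : M ⟶ N) : Prop :=
  ∀ z : W, ∃ L : (DerSch.stalkFunctor W z).obj N →ₗ[W.presheaf.stalk z] (DerSch.stalkFunctor W z).obj M,
    ∀ u, L ((DerSch.stalkFunctor W z).map a u) = u

theorem hasStalkRetraction_of_retraction {W : Scheme.{u}} {M N : W.Modules} (a : M ⟶ N)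
    (h : ∀ z : W, ∃ (U : W.Opens) (ρ : (Scheme.Modules.restrictFunctor U.ι).obj N ⟶
      (Scheme.Modules.restrictFunctor U.ι).obj M), z ∈ U ∧ (Scheme.Modules.restrictFunctor U.ι).map a ≫ ρ = 𝟙 _) :
    HasStalkRetraction a := fun z => by
  obtain ⟨U, ρ, hz, hρ⟩ := h z
  refine ⟨openStalk U hz ρ, fun u => ?_⟩
  rw [← openStalk_map U hz a, ← openStalk_comp, hρ, openStalk_id]

theorem hasStalkRetraction_of_section {W : Scheme.{u}} {S : ShortComplex W.Modules} (hS : S.ShortExact)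
    (h : ∀ z : W, ∃ U : W.Opens, z ∈ U ∧ ∃ r : (Scheme.Modules.restrictFunctor U.ι).obj S.X₃ ⟶
      (Scheme.Modules.restrictFunctor U.ι).obj S.X₂, r ≫ (Scheme.Modules.restrictFunctor U.ι).map S.g = 𝟙 _) :
    HasStalkRetraction S.f := fun z => by
  obtain ⟨U, hz, r, hr⟩ := h z
  have hSz := hS.map_of_exact (DerSch.stalkFunctor W z)
  let F := ((DerSch.stalkFunctor W z).map S.f).hom
  let G := ((DerSch.stalkFunctor W z).map S.g).hom
  have hF : Function.Injective F := hSz.moduleCat_injective_f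
  have hFG : Function.Exact F G := (ShortComplex.ShortExact.moduleCat_exact_iff_function_exact _).1 hSz.exact
  let Φ := openStalk U hz r
  have hG : ∀ v, G (Φ v) = v := fun v => by
    show (DerSch.stalkFunctor W z).map S.g (openStalk U hz r v) = v
    rw [← openStalk_map U hz S.g, ← openStalk_comp, hr, openStalk_id]
  let π : (DerSch.stalkFunctor W z).obj S.X₂ →ₗ[W.presheaf.stalk z] (DerSch.stalkFunctor W z).obj S.X₂ :=
    LinearMap.id - Φ.comp G
  have hπ : ∀ v, π v ∈ LinearMap.range F := fun v => (hFG _).1 (by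
    show G (v - Φ (G v)) = 0
    rw [map_sub, hG, sub_self])
  refine ⟨(LinearEquiv.ofInjective F hF).symm.toLinearMap.comp (π.codRestrict _ hπ), fun u => ?_⟩
  refine (LinearEquiv.symm_apply_eq _).2 (Subtype.ext ?_)
  show F u - Φ (G (F u)) = F u
  rw [(hFG _).2 ⟨u, rfl⟩, map_zero, sub_zero]

theorem ker_le_prime (i : Z ⟶ X) [IsImmersion i] (z : Z) {W : X.Opens} (hW : IsAffineOpen W)
    [IsClosedImmersion (i ∣_ W)] (hx : i z ∈ W) :
    RingHom.ker (i.app W).hom ≤ (hW.primeIdealOf ⟨i z, hx⟩).asIdeal := by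
  intro y hy
  by_contra hny
  have h1 : z ∈ i ⁻¹ᵁ X.basicOpen y := (FlatMorKoszul.notMem_primeIdealOf_iff hW hx y).1 hny
  rw [Scheme.preimage_basicOpen, show i.app W y = 0 from hy, Scheme.basicOpen_zero] at h1
  exact h1

/-- Generators of the given kind are independent modulo `P * J`. -/
theorem indep_of_seqF {κ : RegImm.Kind} {A : Type u} [CommRing A] {r : ℕ} {f : Fin r → A} (hf : SeqF κ f)
    (P : Ideal A) (hP : Ideal.span (Set.range f) ≤ P) (c : Fin r → A)
    (hc : ∑ p, c p * f p ∈ P * Ideal.span (Set.range f)) (p : Fin r) : c p ∈ P := by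
  rw [← smul_eq_mul P] at hc
  obtain ⟨e, he, hee⟩ := (Submodule.mem_ideal_smul_span_iff_exists_sum _ f _).1 hc
  rw [Finsupp.sum_fintype _ _ (fun i => zero_smul A (f i))] at hee
  simp only [smul_eq_mul] at hee
  have h0 := SeqF.coeff_mem_of_mem_sq hf (a := fun q => c q - e q)
    (by simp only [sub_mul, Finset.sum_sub_distrib, hee, sub_self]; exact zero_mem _) p
  simpa using add_mem (hP h0) (he p)

theorem exists_common (i : Z ⟶ Y) (j : Y ⟶ X) [IsImmersion i] [IsImmersion j] {κ : RegImm.Kind}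
    (hκ : κ ≠ .regular) (h : RegImm.IsRegularImmersion κ (i ≫ j)) (z : Z) {U₂ : X.Opens} (hU₂ : IsAffineOpen U₂)
    (hx₂ : j (i z) ∈ U₂) [IsClosedImmersion (j ∣_ U₂)] :
    ∃ (W : X.Opens) (_ : IsAffineOpen W) (_ : j (i z) ∈ W) (hle : W ≤ U₂),
      IsClosedImmersion (j ∣_ W) ∧ IsClosedImmersion ((i ≫ j) ∣_ W) ∧
      RingHom.ker (j.app W).hom = (RingHom.ker (j.app U₂).hom).map (X.presheaf.map (homOfLE hle).op).hom ∧
      ∃ (n : ℕ) (k : Fin n → Γ(X, W)), SeqF κ k ∧
        RingHom.ker ((i ≫ j).app W).hom = Ideal.span (Set.range k) := by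
  obtain ⟨⟨U₁, hU₁⟩, hx₁, hc₁, rs, hrs, hker⟩ := h.2 z
  haveI : IsClosedImmersion ((i ≫ j) ∣_ U₁) := hc₁
  obtain ⟨g₁, g₂, heq, hxg⟩ := exists_basicOpen_le_affine_inter hU₂ hU₁ (j (i z)) ⟨hx₂, hx₁⟩
  have hle₁ : X.basicOpen g₁ ≤ U₁ := heq.le.trans (X.basicOpen_le g₂)
  have hW := hU₂.basicOpen g₁
  obtain ⟨hcj, hkj⟩ := KoszulChart.restrict j hU₂ hW (X.basicOpen_le g₁)
  obtain ⟨hcij, hkij⟩ := KoszulChart.restrict (i ≫ j) hU₁ hW hle₁
  refine ⟨_, hW, hxg, X.basicOpen_le g₁, hcj, hcij, hkj, rs.length,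
    fun q => (X.presheaf.map (homOfLE hle₁).op).hom (rs.get q),
    ((seq_iff hκ rs).1 hrs).map (KoszulChart.flat_restrict hU₁ hW hle₁), ?_⟩
  rw [hkij, hker, show Ideal.ofList rs = Ideal.span (Set.range rs.get) by rw [Ideal.ofList, Set.range_list_get],
    Ideal.map_span, ← Set.range_comp]
  rfl

theorem isRegularImmersion_koszul (i : Z ⟶ Y) (j : Y ⟶ X) [IsImmersion i] [IsImmersion j]
    [QuasiCompact i] [QuasiCompact j]
    (a : (Scheme.Modules.pullback i).obj (Omega.conormal j) ⟶ Omega.conormal (i ≫ j))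
    (ha : OmegaSh.IsConormalMap (i ≫ j) j (𝟙 X) i a) (hL : HasStalkRetraction a)
    (hj : RegImm.IsRegularImmersion .koszul j) (hij : RegImm.IsRegularImmersion .koszul (i ≫ j)) :
    RegImm.IsRegularImmersion .koszul i := by
  refine ⟨inferInstance, fun z => ?_⟩
  obtain ⟨L, hL⟩ := hL z
  obtain ⟨⟨U₂, hU₂⟩, hx₂, hc₂, F, hF, hFker⟩ := hj.2 (i z)
  haveI : IsClosedImmersion (j ∣_ U₂) := hc₂
  obtain ⟨W, hW, hx, hle, hcj, hcij, hkj, n, k, hk, hK⟩ :=
    exists_common i j (κ := .koszul) (by decide) hij z hU₂ hx₂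
  let f : Fin F.length → Γ(X, W) := fun p => (X.presheaf.map (homOfLE hle).op).hom (F.get p)
  have hf : SeqF .koszul f := ((seq_iff (by decide) F).1 hF).map (KoszulChart.flat_restrict hU₂ hW hle)
  have hJ : RingHom.ker (j.app W).hom = Ideal.span (Set.range f) := by
    rw [hkj, hFker, show Ideal.ofList F = Ideal.span (Set.range F.get) by rw [Ideal.ofList, Set.range_list_get],
      Ideal.map_span, ← Set.range_comp]
    rfl
  haveI := (hW.primeIdealOf ⟨j (i z), hx⟩).isPrime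
  refine exists_chart (by decide) i j a ha z L hL hW hx k hk hK f (fun p => hJ ▸ Ideal.subset_span ⟨p, rfl⟩) 1
    (Ideal.one_notMem _) (fun y hy => by rw [one_mul]; exact hJ ▸ hy) (fun c hc => ?_)
    (fun φ ψ hφ hψ hker _ l hl => ?_)
  · exact indep_of_seqF hf _ (hJ ▸ ker_le_prime j (i z) hW hx) c (hJ ▸ hc)
  · exact FlatMorKoszul.kreg_of_append hψ hker (KindBasic.SeqF.map (k := .koszul) hφ hf) hl

theorem isRegularImmersion_of_fp (i : Z ⟶ Y) (j : Y ⟶ X) [IsImmersion i] [IsImmersion j]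
    [QuasiCompact i] [QuasiCompact j] [LocallyOfFinitePresentation j] {κ : RegImm.Kind} (hκ : κ ≠ .regular)
    (happ : ∀ {A B : Type u} [CommRing A] [CommRing B] (ψ : A →+* B) {s r : ℕ} (l : Fin s → A) (k : Fin r → A),
      Function.Surjective ψ → RingHom.ker ψ = Ideal.span (Set.range k) → SeqF κ (Fin.append l k) →
        SeqF κ fun t => ψ (l t))
    (a : (Scheme.Modules.pullback i).obj (Omega.conormal j) ⟶ Omega.conormal (i ≫ j))
    (ha : OmegaSh.IsConormalMap (i ≫ j) j (𝟙 X) i a) (hL : HasStalkRetraction a)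
    (hij : RegImm.IsRegularImmersion κ (i ≫ j)) :
    RegImm.IsRegularImmersion κ i := by
  refine ⟨inferInstance, fun z => ?_⟩
  obtain ⟨L, hL⟩ := hL z
  obtain ⟨⟨U₂, hU₂⟩, hx₂, hc₂⟩ := KoszulDescentScheme.exists_closed_chart j (i z)
  haveI : IsClosedImmersion (j ∣_ U₂) := hc₂
  obtain ⟨W, hW, hx, -, hcj, hcij, -, n, k, hk, hK⟩ := exists_common i j hκ hij z hU₂ hx₂
  have hV : IsAffineOpen (j ⁻¹ᵁ W) := by
    have : IsAffine W.toScheme := hW
    exact isAffine_of_isAffineHom (j ∣_ W)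
  have hfg : (RingHom.ker (j.app W).hom).FG := by
    letI := (j.app W).hom.toAlgebra
    haveI : Algebra.FinitePresentation Γ(X, W) Γ(Y, j ⁻¹ᵁ W) := by
      have h := HasRingHomProperty.appLE @LocallyOfFinitePresentation j inferInstance ⟨W, hW⟩ ⟨_, hV⟩ le_rfl
      rwa [Scheme.Hom.appLE_eq_app] at h
    exact Algebra.FinitePresentation.ker_fG_of_surjective (Algebra.ofId Γ(X, W) Γ(Y, j ⁻¹ᵁ W))
      (RegImmStalk.app_surjective_of_restrict j hW)
  haveI := (hW.primeIdealOf ⟨j (i z), hx⟩).isPrime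
  obtain ⟨r, f, b, hb, hfJ, hspan, hind⟩ :=
    exists_indep_family (RingHom.ker (j.app W).hom) (hW.primeIdealOf ⟨j (i z), hx⟩).asIdeal hfg
  exact exists_chart hκ i j a ha z L hL hW hx k hk hK f hfJ b hb hspan hind
    (fun φ ψ _ hψ hker _ l hl => happ ψ l _ hψ hker hl)

end Groth.Agent.RegCancelH2
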